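import Cfsg.Agent.Lib.InvChar.CosetCert

/-! Coset enumeration certificate J3X5 for a presented sporadic group. -/

set_option autoImplicit false
set_option maxRecDepth 100000

namespace CfsgLib.InvChar.Coset.J3X5

/-- facts -/
noncomputable def facts : Tr := (.leaf 0x6f0000000005f0001000004f0005300003f00052000473000540000af00050000474000500001240000e0000e30004e0004630004d0000cf0004a0004b3000180000230004c0000020004400002f0001600001f0001500009300017000004000100005420005300053400052000523000510005120000c0005030004f0004f2000030004e2000460004d2000100004c20004b0004b00004a0004a4000490004930004800048200047000470000460004640004500045300044000444000430004330004200042200041000410000400004020003f0003f40003e0003e30003d0003d20003c0003c00003b0003b20003a0003a4000390003930003800038200037000370000360003620003500035400034000343000330003320003200032000031000312000300003040002f0002f30002e0002e20002d0002d00002c0002c20002b0002b40002a0002a3000290002920002800028000027000272000260002640002500025300024000242000230002300002200022200021000214000200002030001f0001f20001e0001e00001d0001d20001c0001c40001b0001b30001a0001a2000190001900001800018200009000172000160001640001500015300014000142000130001300001200012200011000113000000001030000f0000f20000e0000e00000d0000d40000c0000c30000b0000b20000a0000a000009000094000080000830000700007200001000064000050000500000400004400003000030000020000240000100001000000)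
/-- justifications -/
noncomputable def just : Tr := (.leaf 0x5400064000050001000c000001300017000118001840014c0018c0001002080060010005200062000030001000c00000144001400002c00028001800013c001390007002005000530005200051000500005b0004a0004b00059000020004e0004f0005f01c380200100013c00138000080015c00058001540002500080020050004f0004e0000200001000560001400013000120005e0005d0004d0004600c2800c02400174001340011400110001600004000044050d0020050004d0005c0004c0000f0000e0001c00401000130001500004000044000480004c000500015800000001600011000114070e0080040004a0005a00017000090000a0000b000200080100005c00154000580015c001640012c00070060000004b0004a000490004800047000460004500044000580000000001008280280040010c001080010400100000fc000f8000f4000f0000ec000e8000e4000e0000dc000d8000d4000d0000cc000c8000c4000c0000bc000b8000b4000b0000ac000a8000a4000a00009c0009800094000900008c0008800084000800007c0007800074000700006c0006800064000600005c000200001c0001800000040f0310000001500056000010001000c000000500004c000480004400040000010008005001000160001500014000130001200011000100000000006000070000801c3801c0100003c0003800034000300002c0002800024000200001c0001800000030a00b000)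
/-- relators -/
def rels : List (List ℕ) := [[0, 0], [1, 1], [2, 2], [3, 3], [4, 4], [1, 0, 1, 0, 1, 0, 1, 0], [2, 0, 2, 1], [3, 2, 3, 2, 3, 2], [3, 2, 0, 2, 3, 0], [3, 2, 1, 2, 3, 1], [0, 2, 3, 4, 0, 2, 3, 4, 0, 2, 3, 4], [0, 2, 3, 4, 1, 0, 1, 0, 4, 3, 2, 0, 1], [0, 2, 3, 4, 1, 4, 3, 2, 0, 1, 0, 1, 0, 1], [2, 3, 4, 2, 3, 4, 2, 3], [3, 2, 0, 2, 3, 4, 2, 3, 4, 3, 2, 0], [0, 2, 3, 4, 2, 0, 2, 3, 4, 2, 0, 2, 3, 4, 2, 0, 2, 3, 4, 2, 0, 2, 3, 4, 2, 0, 2, 3, 4, 2, 0, 2, 3, 4, 2, 0, 2, 3, 4, 2, 0, 2, 3, 4, 2, 0, 2, 3, 4, 2]]
/-- subgroup words -/
def subs : List (List ℕ) := []
/-- the letters, as letters of the whole group -/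
def emb : List ℕ := [3, 4, 6, 7, 8]
/-- certificate -/
noncomputable def cert : Cert := ⟨5, 102, 84, facts, just, rels, subs⟩

end CfsgLib.InvChar.Coset.J3X5
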